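import Cfsg.Agent.H679.VanO.MinusFour
import Cfsg.Agent.H724.VO.Orth
import Cfsg.Agent.H620.PNRows
import Cfsg.Agent.H579.RkMinus

/-!
# The row `PΩ⁻_{2m}(q)` of S4555 / S4559 (helper679)

* `ominus` : an element of order `p` is a zero (`p` odd);
* `ominus_pow` : a `p`-element is a zero.
-/

set_option autoImplicit false

open Cfsg

namespace Cfsg.Agent.H679.VanO

open Cfsg.Agent.H477.HC Cfsg.Agent.H53.HC Cfsg.Agent.H620.PNorm Cfsg.Agent.H671.H5 Cfsg.Agent.H620 Cfsg.Agent.H423.PGOrthS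

universe u

/-- `7 ∥ |Ω⁻_8(2)|` -/
theorem kill_seven {K : Type} [Field K] [Fintype K] (hK : Fintype.card K = 2) {a b : K}
    (hab : ∀ z₁ z₂ : K, z₁ ^ 2 + a * z₁ * z₂ + b * z₂ ^ 2 = 0 → z₁ = 0 ∧ z₂ = 0) :
    Kill (POmega K (quadFormMinus 3 K a b)) 7 := by
  have : Fact (Nat.Prime 7) := ⟨by norm_num⟩
  have him : H33.IM 7 (POmega K (quadFormMinus 3 K a b)) := Cfsg.Agent.H579.RkThree.leftO8m2 K a b hK hab
  refine Cfsg.Agent.H620.PNRows.kill_of_im him ?_
  have hcard : Nat.card (POmega K (quadFormMinus 3 K a b)) ∣ 2 * 2 ^ 12 * (2 ^ 4 + 1) * (3 * 15 * 63) := by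
    have h1 := card_minusF K 3 a b hab
    rw [Nat.card_eq_fintype_card (α := K), hK] at h1
    have h2 : Nat.card (POmega K (quadFormMinus 3 K a b)) ∣ Nat.card (isometryGroup K (quadFormMinus 3 K a b)) :=
      card_pomega_dvd _
    let i : isometryGroup K (quadFormMinus 3 K a b) ≃* (CForm.minusF K 3 a b hab).iso :=
      isoQuad (CForm.minusF K 3 a b hab) (minus_hB K 3 a b hab)
    rw [Nat.card_congr i.toEquiv, h1] at h2
    simpa [Finset.prod_range_succ] using h2
  have h1 : 7 ∣ Nat.card (POmega K (quadFormMinus 3 K a b)) := him.dvd_card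
  have h2 : ¬ 7 ^ 2 ∣ Nat.card (POmega K (quadFormMinus 3 K a b)) := fun h => by
    have := h.trans hcard
    norm_num at this
  have h3 := (Nat.Prime.dvd_iff_one_le_factorization (by norm_num : Nat.Prime 7) Nat.card_pos.ne').1 h1
  have h4 : ¬ 2 ≤ (Nat.card (POmega K (quadFormMinus 3 K a b))).factorization 7 := fun h => h2
    (((by norm_num : Nat.Prime 7).pow_dvd_iff_le_factorization Nat.card_pos.ne').2 h)
  omega

/-- **`p` odd** -/
theorem vordP_minus {K : Type} [Field K] [Fintype K] {r : ℕ} [Fact r.Prime] [CharP K r] {a b : K}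
    (hab : ∀ z₁ z₂ : K, z₁ ^ 2 + a * z₁ * z₂ + b * z₂ ^ 2 = 0 → z₁ = 0 ∧ z₂ = 0) {l : ℕ}
    (hl : 3 ≤ l) {p : ℕ} (hp : p.Prime) (hp2 : p ≠ 2) (hpr : p ≠ r)
    (hd : p ∣ Nat.card (POmega K (quadFormMinus l K a b))) : VOrdP p (POmega K (quadFormMinus l K a b)) := by
  have : Fact p.Prime := ⟨hp⟩
  have hq2 : 2 ≤ Nat.card K := Finite.one_lt_card
  by_cases h1 : p ∣ Nat.card K ^ 2 - 1
  · exact vordP_two hab hl hp hp2 h1
  by_cases h4 : p ∣ Nat.card K ^ 2 + 1
  · exact vordP_four hab hl hp hp2 h4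
  have e1 : Nat.card K ^ 2 - 1 = (Nat.card K - 1) * (Nat.card K + 1) := by
    rw [mul_comm, ← Nat.sq_sub_sq, one_pow]
  have hm1 : ¬ p ∣ Nat.card K - 1 := fun h => h1 (h.trans (by rw [e1]; exact dvd_mul_right _ _))
  have hp1 : ¬ p ∣ Nat.card K + 1 := fun h => h1 (h.trans (by rw [e1]; exact dvd_mul_left _ _))
  refine Cfsg.Agent.H620.PNRows.vOrdP_of_kill ?_ hd
  by_cases h2 : p ∣ Nat.card K ^ l - 1
  · by_cases h5 : Nat.card K = 2 ∧ l = 3
    · obtain ⟨h5, rfl⟩ := h5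
      rw [h5] at h2
      have h7 : p = 7 := by
        have : p ∣ 7 := by simpa using h2
        exact (Nat.prime_dvd_prime_iff_eq hp (by norm_num)).1 this
      subst h7
      rw [Nat.card_eq_fintype_card] at h5
      exact kill_seven h5 hab
    · refine Cfsg.Agent.H724.VO.kill_minus K (c := r) a b hab (k := l - 1) (n := 1) (by omega) hl (by omega)
        (fun h => ?_) (fun _ _ => odd_one) hp2 hpr (fun h3 => hm1 ?_) (fun i hi => ?_) h4
      · by_contra hcon
        exact h5 ⟨h, by omega⟩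
      · have h4 := Nat.dvd_gcd h2 h3
        have h5 : Nat.gcd (Nat.card K ^ l - 1) (Nat.card K ^ (l - 1) - 1) = Nat.card K - 1 := by
          have h6 := Nat.pow_sub_one_gcd_pow_sub_one (Nat.card K) l (l - 1)
          have h7 : Nat.gcd l (l - 1) = 1 := by
            obtain ⟨j, rfl⟩ : ∃ j, l = j + 1 := ⟨l - 1, by omega⟩
            rw [Nat.add_sub_cancel]
            simp
          rw [h6, h7, pow_one]
        rwa [h5] at h4
      · have : i = 0 := by omega
        subst this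
        exact h1
  · exact Cfsg.Agent.H724.VO.kill_minus K (c := r) a b hab (k := l) (n := 0) (by omega) hl (by omega)
      (fun _ => hl) (fun _ h => by omega) hp2 hpr h2 (fun i hi => absurd hi (Nat.not_lt_zero i))
      (by rw [zero_add, pow_one]; exact hp1)

/-- **the row of `PΩ⁻_{2m}(q)`, elements of order `p`** -/
theorem ominus (K : Type u) [Group K] [Finite K] (p r : ℕ) (hp : p.Prime) (hp2 : p ≠ 2)
    (hr : r.Prime) (hpr : p ≠ r) (h : IsPOmegaMinusChar r K) (hd : p ∣ Nat.card K) : VOrdP p K := by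
  obtain ⟨F, _, _, _, m, a, b, hm, hab, ⟨e⟩⟩ := h
  have : Fact r.Prime := ⟨hr⟩
  have : Fact p.Prime := ⟨hp⟩
  refine VOrdP.mulEquiv ?_ e.symm
  have hd' : p ∣ Nat.card (POmega F (quadFormMinus (m - 1) F a b)) := by rwa [← Nat.card_congr e.toEquiv]
  exact vordP_minus (r := r) hab (by omega) hp hp2 hpr hd'

/-- **the row of `PΩ⁻_{2m}(q)`, `p`-elements** -/
theorem ominus_pow (K : Type u) [Group K] [Finite K] (p r : ℕ) (hp : p.Prime)
    (hr : r.Prime) (hpr : p ≠ r) (h : IsPOmegaMinusChar r K) (hd : p ∣ Nat.card K) : VPow p K := by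
  have : Fact p.Prime := ⟨hp⟩
  by_cases hp2 : p = 2
  · subst hp2
    obtain ⟨F, _, _, _, m, a, b, hm, hab, ⟨e⟩⟩ := h
    refine VPow.mulEquiv (vPow_two hab (by omega) ?_) e.symm
    intro h0
    have h1 : ((2 : ℕ) : F) = 0 := by exact_mod_cast h0
    rw [CharP.cast_eq_zero_iff F r] at h1
    exact hpr ((Nat.prime_dvd_prime_iff_eq hr Nat.prime_two).1 h1).symm
  · exact VOrdP.vPow (ominus K p r hp hp2 hr hpr h hd)

end Cfsg.Agent.H679.VanO
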